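import Mathlib

set_option autoImplicit false

/-!
`GL₅(2)`: its order, and it has no element of order nine.
-/

namespace Cfsg.Agent.Helper19.GL5

open Matrix

theorem card_GL52 : Nat.card (GL (Fin 5) (ZMod 2)) = 9999360 := by
  rw [Matrix.card_GL_field]
  simp [Fin.prod_univ_five, ZMod.card]

/-- an element of order three -/
def matA : Matrix (Fin 5) (Fin 5) (ZMod 2) :=
  !![0, 1, 0, 0, 0; 1, 1, 0, 0, 0; 0, 0, 1, 0, 0; 0, 0, 0, 1, 0; 0, 0, 0, 0, 1]

/-- another element of order three, commuting with the first -/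
def matB : Matrix (Fin 5) (Fin 5) (ZMod 2) :=
  !![1, 0, 0, 0, 0; 0, 1, 0, 0, 0; 0, 0, 0, 1, 0; 0, 0, 1, 1, 0; 0, 0, 0, 0, 1]

theorem matA_cube : matA * matA * matA = 1 := by decide
theorem matB_cube : matB * matB * matB = 1 := by decide
theorem matAB_comm : matA * matB = matB * matA := by decide

theorem matA_mul_sq : matA * (matA * matA) = 1 := by decide
theorem matA_sq_mul : (matA * matA) * matA = 1 := by decide
theorem matB_mul_sq : matB * (matB * matB) = 1 := by decide
theorem matB_sq_mul : (matB * matB) * matB = 1 := by decide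

/-- `matA` as an element of the general linear group -/
def gA : GL (Fin 5) (ZMod 2) := ⟨matA, matA * matA, matA_mul_sq, matA_sq_mul⟩

/-- `matB` as an element of the general linear group -/
def gB : GL (Fin 5) (ZMod 2) := ⟨matB, matB * matB, matB_mul_sq, matB_sq_mul⟩

theorem gA_cube : gA ^ 3 = 1 := by
  apply Units.ext
  rw [Units.val_pow_eq_pow_val, pow_succ, pow_two]
  exact matA_cube

theorem gB_cube : gB ^ 3 = 1 := by
  apply Units.ext
  rw [Units.val_pow_eq_pow_val, pow_succ, pow_two]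
  exact matB_cube

theorem gAB_comm : gA * gB = gB * gA := Units.ext matAB_comm

theorem gA_ne_one : gA ≠ 1 := by
  intro h
  have := congrArg Units.val h
  revert this
  show ¬ (matA = 1)
  decide

theorem gA_sq_ne_one : gA ^ 2 ≠ 1 := by
  intro h
  have := congrArg Units.val h
  rw [Units.val_pow_eq_pow_val, pow_two] at this
  revert this
  show ¬ (matA * matA = 1)
  decide

theorem gA_sq_ne : gA ^ 2 ≠ gA := by
  intro h
  have := congrArg Units.val h
  rw [Units.val_pow_eq_pow_val, pow_two] at this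
  revert this
  show ¬ (matA * matA = matA)
  decide

theorem gB_ne_one : gB ≠ 1 := by
  intro h
  have := congrArg Units.val h
  revert this
  show ¬ (matB = 1)
  decide

theorem gB_ne_gA : gB ≠ gA := by
  intro h
  have := congrArg Units.val h
  revert this
  show ¬ (matB = matA)
  decide

theorem gB_ne_gA_sq : gB ≠ gA ^ 2 := by
  intro h
  have := congrArg Units.val h
  rw [Units.val_pow_eq_pow_val, pow_two] at this
  revert this
  show ¬ (matB = matA * matA)
  decide

/-- the elementary abelian subgroup of order nine generated by `gA`, `gB` -/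
def subE : Subgroup (GL (Fin 5) (ZMod 2)) where
  carrier := {x | ∃ i j : ℕ, x = gA ^ i * gB ^ j}
  one_mem' := ⟨0, 0, by simp⟩
  mul_mem' := by
    rintro _ _ ⟨i, j, rfl⟩ ⟨k, l, rfl⟩
    refine ⟨i + k, j + l, ?_⟩
    have hc : Commute gA gB := gAB_comm
    have h1 : gB ^ j * gA ^ k = gA ^ k * gB ^ j := ((hc.pow_pow k j).eq).symm
    calc gA ^ i * gB ^ j * (gA ^ k * gB ^ l) = gA ^ i * (gB ^ j * gA ^ k) * gB ^ l := by group
      _ = gA ^ i * (gA ^ k * gB ^ j) * gB ^ l := by rw [h1]
      _ = gA ^ (i + k) * gB ^ (j + l) := by rw [pow_add, pow_add]; group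
  inv_mem' := by
    rintro _ ⟨i, j, rfl⟩
    refine ⟨2 * i, 2 * j, ?_⟩
    have hc : Commute gA gB := gAB_comm
    rw [inv_eq_iff_mul_eq_one]
    have h1 : gB ^ j * gA ^ (2 * i) = gA ^ (2 * i) * gB ^ j := ((hc.pow_pow (2 * i) j).eq).symm
    calc gA ^ i * gB ^ j * (gA ^ (2 * i) * gB ^ (2 * j))
        = gA ^ i * (gB ^ j * gA ^ (2 * i)) * gB ^ (2 * j) := by group
      _ = gA ^ i * (gA ^ (2 * i) * gB ^ j) * gB ^ (2 * j) := by rw [h1]
      _ = gA ^ (3 * i) * gB ^ (3 * j) := by
          rw [show 3 * i = i + 2 * i by ring, show 3 * j = j + 2 * j by ring, pow_add, pow_add]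
          group
      _ = 1 := by rw [pow_mul, pow_mul, gA_cube, gB_cube, one_pow, one_pow, one_mul]

theorem gA_mem : gA ∈ subE := ⟨1, 0, by simp⟩
theorem gB_mem : gB ∈ subE := ⟨0, 1, by simp⟩

theorem subE_isPGroup : IsPGroup 3 subE := by
  rintro ⟨x, i, j, rfl⟩
  refine ⟨1, ?_⟩
  apply Subtype.ext
  show (gA ^ i * gB ^ j) ^ 3 ^ 1 = 1
  have hc : Commute (gA ^ i) (gB ^ j) := (show Commute gA gB from gAB_comm).pow_pow i j
  rw [pow_one, hc.mul_pow, ← pow_mul, ← pow_mul, mul_comm i, mul_comm j, pow_mul, pow_mul, gA_cube,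
    gB_cube, one_pow, one_pow, one_mul]

/-- `GL₅(2)` has no element of order nine -/
theorem orderOf_ne_nine (g : GL (Fin 5) (ZMod 2)) : orderOf g ≠ 9 := by
  classical
  intro hg
  have : Fact (Nat.Prime 3) := ⟨Nat.prime_three⟩
  have hfac : (Nat.card (GL (Fin 5) (ZMod 2))).factorization 3 = 2 := by
    rw [card_GL52, show (9999360 : ℕ) = 3 ^ 2 * 1111040 by norm_num,
      Nat.factorization_mul (by norm_num) (by norm_num), Nat.Prime.factorization_pow Nat.prime_three]
    simp only [Finsupp.add_apply, Finsupp.single_eq_same]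
    rw [Nat.factorization_eq_zero_of_not_dvd (by norm_num)]
  have hcard : Nat.card (Subgroup.zpowers g) = 3 ^ (Nat.card (GL (Fin 5) (ZMod 2))).factorization 3 := by
    rw [hfac, Nat.card_zpowers, hg]; norm_num
  let P : Sylow 3 (GL (Fin 5) (ZMod 2)) := Sylow.ofCard (Subgroup.zpowers g) hcard
  obtain ⟨Q, hQ⟩ := subE_isPGroup.exists_le_sylow
  have e : ↥(P : Subgroup (GL (Fin 5) (ZMod 2))) ≃* ↥(Q : Subgroup (GL (Fin 5) (ZMod 2))) :=
    Sylow.equiv P Q
  have hPc : IsCyclic ↥(P : Subgroup (GL (Fin 5) (ZMod 2))) :=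
    (inferInstance : IsCyclic (Subgroup.zpowers g))
  have hQc : IsCyclic ↥(Q : Subgroup (GL (Fin 5) (ZMod 2))) :=
    isCyclic_of_surjective e e.surjective
  have hle := IsCyclic.card_pow_eq_one_le (α := ↥(Q : Subgroup (GL (Fin 5) (ZMod 2)))) (n := 3)
    (by norm_num)
  let a : ↥(Q : Subgroup (GL (Fin 5) (ZMod 2))) := ⟨gA, hQ gA_mem⟩
  let b : ↥(Q : Subgroup (GL (Fin 5) (ZMod 2))) := ⟨gB, hQ gB_mem⟩
  have ha3 : a ^ 3 = 1 := Subtype.ext gA_cube
  have hb3 : b ^ 3 = 1 := Subtype.ext gB_cube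
  have hsub : ({1, a, a ^ 2, b} : Finset ↥(Q : Subgroup (GL (Fin 5) (ZMod 2)))) ⊆
      Finset.univ.filter (fun x => x ^ 3 = 1) := by
    intro x hx
    simp only [Finset.mem_insert, Finset.mem_singleton] at hx
    simp only [Finset.mem_filter, Finset.mem_univ, true_and]
    rcases hx with rfl | rfl | rfl | rfl
    · exact one_pow _
    · exact ha3
    · rw [← pow_mul, mul_comm, pow_mul, ha3, one_pow]
    · exact hb3
  have hcard4 : ({1, a, a ^ 2, b} : Finset ↥(Q : Subgroup (GL (Fin 5) (ZMod 2)))).card = 4 := by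
    have h1 : (1 : ↥(Q : Subgroup (GL (Fin 5) (ZMod 2)))) ≠ a :=
      fun h => gA_ne_one (congrArg Subtype.val h).symm
    have h2 : (1 : ↥(Q : Subgroup (GL (Fin 5) (ZMod 2)))) ≠ a ^ 2 :=
      fun h => gA_sq_ne_one (congrArg Subtype.val h).symm
    have h3 : (1 : ↥(Q : Subgroup (GL (Fin 5) (ZMod 2)))) ≠ b :=
      fun h => gB_ne_one (congrArg Subtype.val h).symm
    have h4 : a ≠ a ^ 2 := fun h => gA_sq_ne (congrArg Subtype.val h).symm
    have h5 : a ≠ b := fun h => gB_ne_gA (congrArg Subtype.val h).symm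
    have h6 : a ^ 2 ≠ b := fun h => gB_ne_gA_sq (congrArg Subtype.val h).symm
    rw [Finset.card_insert_of_notMem, Finset.card_insert_of_notMem, Finset.card_insert_of_notMem,
      Finset.card_singleton]
    · simp only [Finset.mem_singleton]; exact h6
    · simp only [Finset.mem_insert, Finset.mem_singleton, not_or]; exact ⟨h4, h5⟩
    · simp only [Finset.mem_insert, Finset.mem_singleton, not_or]; exact ⟨h1, h2, h3⟩
  have := Finset.card_le_card hsub
  rw [hcard4] at this
  omega

end Cfsg.Agent.Helper19.GL5
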