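import Mathlib
import Cfsg.Agent.Helper5.PSL2

set_option autoImplicit false

/-!
`PSL₂(8)` has an element of order nine.
-/

namespace Cfsg.Agent.Helper19.GL5

open Matrix

variable {F : Type*} [Field F] [Fintype F]

theorem exists_root (hF : Fintype.card F = 8) : ∃ c : F, c ^ 3 + c + 1 = 0 := by
  have h2 : (2 : F) = 0 :=
    Cfsg.Agent.Helper5.two_eq_zero_of_even_card (by rw [hF]; decide)
  have hcard : 2 < Fintype.card F := by rw [hF]; norm_num
  obtain ⟨c₀, h0, h1⟩ : ∃ c₀ : F, c₀ ≠ 0 ∧ c₀ ≠ 1 := by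
    by_contra hcon
    push Not at hcon
    have : Fintype.card F ≤ 2 := by
      classical
      have hsub : (Finset.univ : Finset F) ⊆ {0, 1} := by
        intro x _
        by_cases hx : x = 0
        · simp [hx]
        · simp [hcon x hx]
      calc Fintype.card F = (Finset.univ : Finset F).card := rfl
        _ ≤ ({0, 1} : Finset F).card := Finset.card_le_card hsub
        _ ≤ 2 := Finset.card_le_two
    omega
  have h7 : c₀ ^ 7 = 1 := by
    have := FiniteField.pow_card_sub_one_eq_one c₀ h0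
    rwa [hF] at this
  have hprod : (c₀ - 1) * ((c₀ ^ 3 + c₀ + 1) * (c₀ ^ 3 + c₀ ^ 2 + 1)) = 0 := by
    linear_combination h7 + (c₀ ^ 3 * (c₀ - 1)) * h2
  rcases mul_eq_zero.mp hprod with h | h
  · exact absurd (sub_eq_zero.mp h) h1
  · rcases mul_eq_zero.mp h with h | h
    · exact ⟨c₀, h⟩
    · refine ⟨c₀ + 1, ?_⟩
      linear_combination h + (c₀ ^ 2 + 2 * c₀ + 1) * h2

/-- the companion matrix of `X² + cX + 1` -/
def matM (c : F) : Matrix (Fin 2) (Fin 2) F := !![0, 1; 1, c]

omit [Fintype F] in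
theorem det_matM (c : F) (h2 : (2 : F) = 0) : (matM c).det = 1 := by
  rw [matM, Matrix.det_fin_two_of]
  linear_combination -h2

omit [Fintype F] in
theorem matM_pow_nine (c : F) (h2 : (2 : F) = 0) (hc : c ^ 3 + c + 1 = 0) : matM c ^ 9 = 1 := by
  ext i j
  fin_cases i <;> fin_cases j <;>
    simp [matM, pow_succ, Matrix.mul_apply, Fin.sum_univ_two]
  · linear_combination ((5) + (-1)*c + (5)*c^2 + (1)*c^4) * hc + ((-3) + (-2)*c^2) * h2
  · linear_combination ((-5) + (9)*c + (-1)*c^2 + (6)*c^3 + (1)*c^5) * hc + ((3) + (-2)*c + (1)*c^2) * h2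
  · linear_combination ((-5) + (9)*c + (-1)*c^2 + (6)*c^3 + (1)*c^5) * hc + ((3) + (-2)*c + (1)*c^2) * h2
  · linear_combination ((7) + (-6)*c + (14)*c^2 + (-1)*c^3 + (7)*c^4 + (1)*c^6) * hc + ((-4) + (2)*c + (-4)*c^2) * h2

omit [Fintype F] in
theorem matM_pow_three_ne (c : F) (h2 : (2 : F) = 0) (hc : c ^ 3 + c + 1 = 0) : matM c ^ 3 ≠ 1 := by
  intro h
  have h01 := congrFun (congrFun h 0) 1
  simp [matM, pow_succ, Matrix.mul_apply, Fin.sum_univ_two] at h01
  -- the (0,1) entry of `M ^ 3` is `c ^ 2 + 1`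
  have hc1 : (c + 1) ^ 2 = 0 := by linear_combination h01 + c * h2
  have hc1' : c + 1 = 0 := by
    rcases pow_eq_zero_iff (two_ne_zero) |>.mp hc1 with h
    exact h
  have : (1 : F) = 0 := by
    have hcv : c = -1 := by linear_combination hc1'
    rw [hcv] at hc
    linear_combination -hc
  exact one_ne_zero this

theorem exists_orderOf_nine (hF : Fintype.card F = 8) :
    ∃ x : Matrix.ProjectiveSpecialLinearGroup (Fin 2) F, orderOf x = 9 := by
  have h2 : (2 : F) = 0 :=
    Cfsg.Agent.Helper5.two_eq_zero_of_even_card (by rw [hF]; decide)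
  obtain ⟨c, hc⟩ := exists_root hF
  let g : SpecialLinearGroup (Fin 2) F := ⟨matM c, det_matM c h2⟩
  have hg9 : g ^ 9 = 1 := by
    apply Matrix.SpecialLinearGroup.ext
    intro i j
    rw [Matrix.SpecialLinearGroup.coe_pow, Matrix.SpecialLinearGroup.coe_one]
    show (matM c ^ 9) i j = (1 : Matrix (Fin 2) (Fin 2) F) i j
    rw [matM_pow_nine c h2 hc]
  have hg3 : g ^ 3 ≠ 1 := by
    intro h
    apply matM_pow_three_ne c h2 hc
    ext i j
    have := (Matrix.SpecialLinearGroup.ext_iff _ _).mp h i j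
    rw [Matrix.SpecialLinearGroup.coe_pow, Matrix.SpecialLinearGroup.coe_one] at this
    exact this
  have hord : orderOf g = 9 := by
    have hdvd : orderOf g ∣ 3 ^ 2 := by
      rw [show (3 : ℕ) ^ 2 = 9 by norm_num]; exact orderOf_dvd_of_pow_eq_one hg9
    have hnd : ¬ orderOf g ∣ 3 := fun h => hg3 (orderOf_dvd_iff_pow_eq_one.mp h)
    obtain ⟨k, hk, hk2⟩ := (Nat.dvd_prime_pow Nat.prime_three).mp hdvd
    interval_cases k
    · rw [hk2] at hnd; norm_num at hnd
    · rw [hk2] at hnd; norm_num at hnd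
    · rw [hk2]; norm_num
  have hcen : Subgroup.center (SpecialLinearGroup (Fin 2) F) = ⊥ := by
    have := Cfsg.Agent.Helper5.card_center_SL2_of_two_eq_zero (F := F) h2
    exact Subgroup.card_eq_one.mp this
  refine ⟨QuotientGroup.mk' _ g, ?_⟩
  rw [← hord]
  apply orderOf_injective
  rw [← MonoidHom.ker_eq_bot_iff, QuotientGroup.ker_mk', hcen]

end Cfsg.Agent.Helper19.GL5
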